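import Cfsg.Agent.Schreier.MTwentyThree
import Cfsg.Agent.J4.M24Invol

/-!
# `Out(M23) = 1` (helper259)

`exists_conj`: every automorphism of `M23` is inner. An automorphism permutes the 23 point stabilisers, this defines a
permutation `τ` of the points; `τ` maps fixed point sets of involutions to such sets, and these are exactly the octads
through the extra point, which span the Golay code: `τ` lies in `M24`.
-/

set_option autoImplicit false

open scoped Pointwise

namespace Cfsg.Agent.KFacts.M23.OutOne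

open Cfsg MulAction
open Cfsg.Agent.SporadicA.GolayBase Cfsg.Agent.SporadicA.GolayPerm
open Cfsg.Agent.SporadicStructure.M24El
open Cfsg.Agent.J4.M24InvolData Cfsg.Agent.J4.M24Invol
open Cfsg.Agent.Schreier.MTwentyThree
open Cfsg.Agent.SporadicA.MathieuRecog (mem_M23_iff)

/-! ### Fixed points of involutions -/

/-- the fixed points of a permutation -/
def fixS (g : Equiv.Perm GolayPt) : Finset GolayPt := Finset.univ.filter fun p => g p = p

theorem mem_fixS {g : Equiv.Perm GolayPt} {p : GolayPt} : p ∈ fixS g ↔ g p = p := by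
  simp only [fixS, Finset.mem_filter, Finset.mem_univ, true_and]

theorem fixS_conj (g u : Equiv.Perm GolayPt) : fixS (g * u * g⁻¹) = g • fixS u := by
  ext p
  rw [mem_fixS, ← Finset.inv_smul_mem_iff, mem_fixS, Equiv.Perm.mul_apply,
    Equiv.Perm.mul_apply, ← Equiv.Perm.eq_inv_iff_eq, Equiv.Perm.smul_def]

theorem coe_mul_conj (g u : M24) : ((g * u * g⁻¹ : M24) : Equiv.Perm GolayPt) =
    (g : Equiv.Perm GolayPt) * (u : Equiv.Perm GolayPt) * (g : Equiv.Perm GolayPt)⁻¹ := rfl

theorem fix_P1_check : ((List.range 24).all fun i => (Nat.beq (papp P1 i) i) == octMask.testBit i) = true := by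
  decide +kernel

theorem fix_P2_check : ((List.range 24).all fun i => !(Nat.beq (papp P2 i) i)) = true := by
  decide +kernel

theorem fixS_P1 : fixS (el P1 : Equiv.Perm GolayPt) = fin octMask := by
  ext p
  rw [mem_fixS, mem_fin]
  have h := fix_P1_check
  rw [List.all_eq_true] at h
  have h1 := h (idx p) (List.mem_range.2 (idx_lt p))
  rw [beq_iff_eq] at h1
  rw [← h1, Nat.beq_eq]
  have h2 : (el P1 : Equiv.Perm GolayPt) p = pt (papp P1 (idx p)) := el_smul_pt ok_P1 p
  constructor
  · intro e
    have := idx_el_smul ok_P1 p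
    rw [← this]
    exact congrArg idx e
  · intro e
    rw [h2, e, pt_idx]

theorem P2_ne (p : GolayPt) : (el P2 : Equiv.Perm GolayPt) p ≠ p := by
  intro e
  have h := fix_P2_check
  rw [List.all_eq_true] at h
  have h1 := h (idx p) (List.mem_range.2 (idx_lt p))
  have h2 : idx (el P2 • p) = papp P2 (idx p) := idx_el_smul ok_P2 p
  have h3 : papp P2 (idx p) = idx p := by rw [← h2]; exact congrArg idx e
  rw [h3, Nat.beq_refl] at h1
  exact absurd h1 (by decide)

/-- the fixed points of an involution of `M23` form an octad -/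
theorem fixS_mem {u : Equiv.Perm GolayPt} (hu : u ∈ Cfsg.Spor.M23) (h2 : u * u = 1) (h1 : u ≠ 1) :
    fixS u ∈ octads := by
  obtain ⟨hM, h0⟩ := (mem_M23_iff u).1 hu
  obtain ⟨g, hg | hg⟩ := invol_conj ⟨u, hM⟩ (Subtype.ext h2) (fun e => h1 (congrArg Subtype.val e))
  · have e : u = (g⁻¹ : M24) * (el P1 : Equiv.Perm GolayPt) * ((g⁻¹ : M24) : Equiv.Perm GolayPt)⁻¹ := by
      have h3 : (⟨u, hM⟩ : M24) = g⁻¹ * el P1 * (g⁻¹)⁻¹ := by rw [← hg]; group
      exact congrArg Subtype.val h3
    rw [e, fixS_conj, fixS_P1]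
    exact smul_mem_octads g⁻¹ octMask_mem
  · exfalso
    apply P2_ne ((g : Equiv.Perm GolayPt) none)
    rw [← hg]
    show ((g : Equiv.Perm GolayPt) * u * (g : Equiv.Perm GolayPt)⁻¹) ((g : Equiv.Perm GolayPt) none) = _
    rw [Equiv.Perm.mul_apply, Equiv.Perm.mul_apply, perm_inv_apply_self, h0]

theorem P1_sq : el P1 * el P1 = 1 := by
  rw [← el_pcomp ok_P1 ok_P1, ← el_idP]
  exact congrArg el (by decide +kernel)

theorem exists_notMem {o : Finset GolayPt} (ho : o ∈ octads) : ∃ p, p ∉ o := by
  by_contra hno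
  push Not at hno
  have h1 : o = Finset.univ := Finset.eq_univ_iff_forall.mpr hno
  have h2 := octad_card ho
  rw [h1] at h2
  exact absurd h2 (by decide)

/-- every octad through the extra point is the set of fixed points of an involution of `M23` -/
theorem exists_invol {o : Finset GolayPt} (ho : o ∈ octads) (h0 : none ∈ o) :
    ∃ u : Cfsg.Spor.M23, u * u = 1 ∧ u ≠ 1 ∧ fixS (u : Equiv.Perm GolayPt) = o := by
  obtain ⟨p, hp⟩ := exists_notMem octMask_mem
  obtain ⟨p', hp'⟩ := exists_notMem ho
  obtain ⟨g, hg, hgo, -⟩ :=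
    Cfsg.Agent.SporadicStructure.M24Frame.exists_smul_octad octMask_mem ho hp hp'
  have hf : fixS (g * (el P1 : Equiv.Perm GolayPt) * g⁻¹) = o := by
    rw [fixS_conj, fixS_P1, hgo]
  have hM : g * (el P1 : Equiv.Perm GolayPt) * g⁻¹ ∈ M24 := mul_mem (mul_mem hg (el P1).2) (inv_mem hg)
  have h23 : g * (el P1 : Equiv.Perm GolayPt) * g⁻¹ ∈ Cfsg.Spor.M23 := by
    rw [mem_M23_iff]
    refine ⟨hM, ?_⟩
    rw [← hf, mem_fixS] at h0
    exact h0
  refine ⟨⟨_, h23⟩, ?_, ?_, hf⟩
  · apply Subtype.ext
    show g * (el P1 : Equiv.Perm GolayPt) * g⁻¹ * (g * (el P1 : Equiv.Perm GolayPt) * g⁻¹) = 1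
    have h1 : (el P1 : Equiv.Perm GolayPt) * (el P1 : Equiv.Perm GolayPt) = 1 := congrArg Subtype.val P1_sq
    calc g * (el P1 : Equiv.Perm GolayPt) * g⁻¹ * (g * (el P1 : Equiv.Perm GolayPt) * g⁻¹)
        = g * ((el P1 : Equiv.Perm GolayPt) * (el P1 : Equiv.Perm GolayPt)) * g⁻¹ := by group
      _ = 1 := by rw [h1]; group
  · intro e
    have e1 : g * (el P1 : Equiv.Perm GolayPt) * g⁻¹ = 1 := congrArg Subtype.val e
    obtain ⟨q, hq⟩ := exists_notMem ho
    apply hq
    rw [← hf, e1, mem_fixS]
    rfl

/-! ### The permutation of the points -/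

section

variable (φ : MulAut Cfsg.Spor.M23)

/-- the permutation of the points induced by an automorphism -/
noncomputable def tf (x : GolayPt) : GolayPt :=
  if hx : x = none then none else (exists_image φ hx).choose

theorem tf_none : tf φ none = none := by
  rw [tf, dif_pos rfl]

theorem tf_spec {x : GolayPt} (hx : x ≠ none) :
    tf φ x ≠ none ∧ (St x).map φ.toMonoidHom = St (tf φ x) := by
  rw [tf, dif_neg hx]
  exact (exists_image φ hx).choose_spec

theorem St_inj {x y : GolayPt} (hx : x ≠ none) (hy : y ≠ none) (h : St x = St y) : x = y := by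
  apply eq_of_fixed hy hx
  intro m hm
  rw [← h] at hm
  exact hm

theorem tf_inj : Function.Injective (tf φ) := by
  intro x y h
  by_cases hx : x = none
  · by_cases hy : y = none
    · rw [hx, hy]
    · rw [hx, tf_none] at h
      exact absurd h.symm (tf_spec φ hy).1
  · by_cases hy : y = none
    · rw [hy, tf_none] at h
      exact absurd h (tf_spec φ hx).1
    · apply St_inj hx hy
      apply Subgroup.map_injective (f := φ.toMonoidHom) φ.injective
      rw [(tf_spec φ hx).2, (tf_spec φ hy).2, h]

/-- the permutation of the points induced by an automorphism -/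
noncomputable def tau : Equiv.Perm GolayPt :=
  Equiv.ofBijective (tf φ) (Finite.injective_iff_bijective.1 (tf_inj φ))

theorem tau_apply (x : GolayPt) : tau φ x = tf φ x := rfl

theorem tau_none : tau φ none = none := tf_none φ

theorem tau_spec {x : GolayPt} (hx : x ≠ none) :
    tau φ x ≠ none ∧ (St x).map φ.toMonoidHom = St (tau φ x) := tf_spec φ hx

/-- `φ(m) τ(x) = τ(m x)` -/
theorem tau_comm (m : Cfsg.Spor.M23) (x : GolayPt) :
    (φ m : Equiv.Perm GolayPt) (tau φ x) = tau φ ((m : Equiv.Perm GolayPt) x) := by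
  by_cases hx : x = none
  · subst hx
    rw [tau_none, apply_none, apply_none, tau_none]
  · have hmx := apply_ne m hx
    apply St_inj (apply_ne (φ m) (tau_spec φ hx).1) (tau_spec φ hmx).1
    rw [← (tau_spec φ hmx).2, ← map_conj_St, ← map_conj_St, ← (tau_spec φ hx).2, Subgroup.map_map,
      Subgroup.map_map]
    congr 1
    apply MonoidHom.ext
    intro n
    show (φ m * φ n * (φ m)⁻¹ : Cfsg.Spor.M23) = φ (m * n * m⁻¹)
    rw [map_mul, map_mul, map_inv]

theorem tau_conj (m : Cfsg.Spor.M23) :
    (φ m : Equiv.Perm GolayPt) = tau φ * (m : Equiv.Perm GolayPt) * (tau φ)⁻¹ := by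
  rw [eq_mul_inv_iff_mul_eq]
  apply Equiv.ext
  intro x
  rw [Equiv.Perm.mul_apply, Equiv.Perm.mul_apply]
  exact tau_comm φ m x

/-- `τ` preserves the octads through the extra point -/
theorem tau_octad {o : Finset GolayPt} (ho : o ∈ octads) (h0 : none ∈ o) : tau φ • o ∈ octads := by
  obtain ⟨u, hu2, hu1, rfl⟩ := exists_invol ho h0
  rw [← fixS_conj, ← tau_conj]
  apply fixS_mem (φ u).2
  · have : φ u * φ u = 1 := by rw [← map_mul, hu2, map_one]
    exact congrArg Subtype.val this
  · intro e
    apply hu1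
    apply φ.injective
    rw [map_one]
    exact Subtype.ext e

end

/-! ### A permutation preserving the octads through the extra point lies in `M24` -/

/-- the basis words as sums of octads through the extra point -/
def dec : List (List ℕ) := [
  [8391797, 8394986, 8407702, 8455014, 8521420, 8654232, 12584506],
  [8398155, 8407702, 8421811, 8455014, 8919856, 12584506],
  [8391797, 8394986, 8398155, 8421811, 8654232, 9440193, 12584506],
  [8398155, 8521420, 8654232, 8919856, 10486557, 12584506],
  [8398155, 8455014, 8521420, 8919856, 9440193],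
  [8391797, 8398155, 8407702, 8521420, 8654232, 9440193, 10486557],
  [8394986, 8407702, 8421811, 8654232, 8919856, 10486557, 12584506],
  [8407702, 8421811, 8521420, 8654232, 8919856, 9440193],
  [8394986, 8398155, 8421811, 8455014, 8654232, 8919856, 9440193, 10486557],
  [8394986, 8407702, 8455014, 8521420, 8919856, 9440193, 10486557, 12584506],
  [8391797, 8394986, 8407702, 8421811, 8455014, 9440193, 10486557],
  [8391797, 8398155, 8421811, 8455014, 8521420, 10486557, 12584506]]

theorem dec_ok : ((List.range 12).all fun k =>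
    Nat.beq ((dec.getD k []).foldr (fun a b => a ^^^ b) 0) (basisMask k) &&
      (dec.getD k []).all fun m => isCode m && Nat.beq (popcount m) 8 && m.testBit 23) = true := by
  decide +kernel

theorem mem_M24_of_octads (g : Equiv.Perm GolayPt)
    (h : ∀ o ∈ octads, none ∈ o → g • o ∈ octads) : g ∈ M24 := by
  have hx : ∀ l : List ℕ, (∀ m ∈ l, moveWord g (word m) ∈ golayCode) →
      moveWord g (word (l.foldr (fun a b => a ^^^ b) 0)) ∈ golayCode := by
    intro l
    induction l with
    | nil =>
      intro _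
      rw [List.foldr_nil, word_zero, map_zero]
      exact golayCode.zero_mem
    | cons a l ih =>
      intro hl
      rw [List.foldr_cons, word_xor, map_add]
      exact golayCode.add_mem (hl a (List.mem_cons_self)) (ih fun m hm => hl m (List.mem_cons_of_mem _ hm))
  have hs : ∀ m, g • fin m = support₂ (moveWord g (word m)) := by
    intro m
    rw [← support₂_word, smul_support₂]
    rfl
  apply mem_M24_of_basis
  intro k hk
  have h1 := dec_ok
  rw [List.all_eq_true] at h1
  have h2 := h1 k (List.mem_range.2 hk)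
  rw [Bool.and_eq_true, Nat.beq_eq, List.all_eq_true] at h2
  rw [hs, maskOf_support₂, ← mem_golayCode_iff, ← h2.1]
  apply hx
  intro m hm
  have h3 := h2.2 m hm
  rw [Bool.and_eq_true, Bool.and_eq_true, Nat.beq_eq] at h3
  obtain ⟨⟨h4, h5⟩, h6⟩ := h3
  have ho : fin m ∈ octads := (fin_mem_octads_iff (isCode_lt h4)).2 ⟨h4, h5⟩
  have hgo := h _ ho (mem_fin.2 h6)
  rw [hs, mem_octads_iff, maskOf_support₂, ← mem_golayCode_iff] at hgo
  exact hgo.1

/-- **`Out(M23) = 1`.** -/
theorem exists_conj (φ : MulAut Cfsg.Spor.M23) : ∃ m : Cfsg.Spor.M23, φ = MulAut.conj m := by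
  have h1 : tau φ ∈ Cfsg.Spor.M23 := by
    rw [mem_M23_iff]
    exact ⟨mem_M24_of_octads _ fun o ho h0 => tau_octad φ ho h0, tau_none φ⟩
  refine ⟨⟨tau φ, h1⟩, ?_⟩
  apply MulEquiv.ext
  intro m
  apply Subtype.ext
  exact tau_conj φ m

/-- every automorphism of a group isomorphic to `M23` is inner -/
theorem exists_conj' {K : Type*} [Group K] (hK : Cfsg.Spor.IsoM23 K) (φ : K ≃* K) :
    ∃ k : K, ∀ x, φ x = k * x * k⁻¹ := by
  obtain ⟨e⟩ := hK
  obtain ⟨m, hm⟩ := exists_conj ((e.symm.trans φ).trans e)
  refine ⟨e.symm m, fun x => ?_⟩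
  have h1 : ((e.symm.trans φ).trans e) (e x) = m * e x * m⁻¹ := by
    have := DFunLike.congr_fun hm (e x)
    exact this
  have h2 : e (φ x) = m * e x * m⁻¹ := by
    rw [← h1]
    show e (φ x) = e (φ (e.symm (e x)))
    rw [e.symm_apply_apply]
  apply e.injective
  rw [h2, map_mul, map_mul, map_inv, e.apply_symm_apply]

end Cfsg.Agent.KFacts.M23.OutOne
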